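import Mathlib
import Cfsg.Agent.Lib.Coprime85.Invariant
import Cfsg.Agent.Lib.Structure81.FPFPGroup

/-!
`p`-groups of linear maps of a finite `𝔽_q`-space with all orbits on nonzero vectors of the same
size: basic lemmas (helper45).
-/

set_option autoImplicit false

namespace CfsgLib.Recog45.HalfTransitive

variable {q : ℕ} [Fact q.Prime] {V : Type*} [AddCommGroup V] [Module (ZMod q) V]
variable {G : Type*} [Group G]

/-- point stabilizer of a linear action -/
def St (ρ : G →* (V ≃ₗ[ZMod q] V)) (v : V) : Subgroup G where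
  carrier := {g | ρ g v = v}
  one_mem' := by simp
  mul_mem' := fun {a b} ha hb => by
    show ρ (a * b) v = v
    rw [map_mul, LinearEquiv.mul_apply]
    rw [show ρ b v = v from hb, show ρ a v = v from ha]
  inv_mem' := fun {a} ha => by
    show ρ a⁻¹ v = v
    conv_lhs => rw [← show ρ a v = v from ha]
    rw [← LinearEquiv.mul_apply, ← map_mul, inv_mul_cancel, map_one, LinearEquiv.coe_one, id_eq]

theorem mem_St {ρ : G →* (V ≃ₗ[ZMod q] V)} {v : V} {g : G} : g ∈ St ρ v ↔ ρ g v = v := Iff.rfl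

theorem apply_mul (ρ : G →* (V ≃ₗ[ZMod q] V)) (a b : G) (v : V) : ρ (a * b) v = ρ a (ρ b v) := by
  rw [map_mul, LinearEquiv.mul_apply]

theorem apply_inv_apply (ρ : G →* (V ≃ₗ[ZMod q] V)) (a : G) (v : V) : ρ a⁻¹ (ρ a v) = v := by
  rw [← apply_mul, inv_mul_cancel, map_one, LinearEquiv.coe_one, id_eq]

theorem apply_apply_inv (ρ : G →* (V ≃ₗ[ZMod q] V)) (a : G) (v : V) : ρ a (ρ a⁻¹ v) = v := by
  rw [← apply_mul, mul_inv_cancel, map_one, LinearEquiv.coe_one, id_eq]

theorem eq_one_of_fix {ρ : G →* (V ≃ₗ[ZMod q] V)} (hρ : Function.Injective ρ) {g : G}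
    (h : ∀ v, ρ g v = v) : g = 1 :=
  hρ (by rw [map_one]; exact LinearEquiv.ext fun v => h v)

variable [Finite G]

theorem card_orbit_mul_card_St (ρ : G →* (V ≃ₗ[ZMod q] V)) (v : V) :
    Nat.card {u : V | ∃ g : G, ρ g v = u} * Nat.card (St ρ v) = Nat.card G := by
  letI : MulAction G V :=
    { smul := fun g v => ρ g v
      one_smul := fun v => by show ρ 1 v = v; rw [map_one, LinearEquiv.coe_one, id_eq]
      mul_smul := fun a b v => apply_mul ρ a b v }
  have h1 : MulAction.stabilizer G v = St ρ v := rfl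
  have h2 : MulAction.orbit G v = {u : V | ∃ g : G, ρ g v = u} := rfl
  rw [← h1, ← h2, Nat.card_congr (MulAction.orbitEquivQuotientStabilizer G v), mul_comm,
    ← Subgroup.index]
  exact Subgroup.card_mul_index _

/-- equal orbit sizes give equal stabilizer orders -/
theorem card_St_eq (ρ : G →* (V ≃ₗ[ZMod q] V))
    (hhalf : ∀ v w : V, v ≠ 0 → w ≠ 0 →
      Nat.card {u : V | ∃ g : G, ρ g v = u} = Nat.card {u : V | ∃ g : G, ρ g w = u})
    {v w : V} (hv : v ≠ 0) (hw : w ≠ 0) : Nat.card (St ρ v) = Nat.card (St ρ w) := by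
  have h1 := card_orbit_mul_card_St ρ v
  rw [hhalf v w hv hw, ← card_orbit_mul_card_St ρ w] at h1
  have hpos : 0 < Nat.card {u : V | ∃ g : G, ρ g w = u} := by
    refine Nat.pos_of_ne_zero fun h0 => ?_
    have := card_orbit_mul_card_St ρ w
    rw [h0, zero_mul] at this
    exact (Nat.card_pos (α := G)).ne this
  exact Nat.eq_of_mul_eq_mul_left hpos h1

theorem eq_of_le_St (ρ : G →* (V ≃ₗ[ZMod q] V))
    (hhalf : ∀ v w : V, v ≠ 0 → w ≠ 0 →
      Nat.card {u : V | ∃ g : G, ρ g v = u} = Nat.card {u : V | ∃ g : G, ρ g w = u})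
    {v w : V} (hv : v ≠ 0) (hw : w ≠ 0) (h : St ρ v ≤ St ρ w) : St ρ v = St ρ w :=
  Subgroup.eq_of_le_of_card_ge h (card_St_eq ρ hhalf hv hw).ge

/-- A semiregular `p`-group is cyclic or generalized quaternion. -/
theorem cyclic_or_quaternion [Finite V] [Nontrivial V] {p : ℕ} [Fact p.Prime] (hG : IsPGroup p G)
    (ρ : G →* (V ≃ₗ[ZMod q] V)) (hsr : ∀ v : V, v ≠ 0 → ∀ g : G, ρ g v = v → g = 1) :
    IsCyclic G ∨ ∃ n : ℕ, Nonempty (G ≃* QuaternionGroup n) := by
  letI : MulDistribMulAction G (Multiplicative V) :=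
    { smul := fun g x => Multiplicative.ofAdd (ρ g x.toAdd)
      one_smul := fun x => by
        show Multiplicative.ofAdd (ρ 1 x.toAdd) = x
        rw [map_one, LinearEquiv.coe_one, id_eq]; rfl
      mul_smul := fun a b x => by
        show Multiplicative.ofAdd (ρ (a * b) x.toAdd) =
          Multiplicative.ofAdd (ρ a (ρ b x.toAdd))
        rw [apply_mul]
      smul_mul := fun g x y => by
        show Multiplicative.ofAdd (ρ g (x.toAdd + y.toAdd)) = _
        rw [map_add]; rfl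
      smul_one := fun g => by
        show Multiplicative.ofAdd (ρ g 0) = _
        rw [map_zero]; rfl }
  have hfpf : CfsgLib.Frobenius.IsFPF G (Multiplicative V) := by
    intro a ha n hn
    by_contra hn1
    have h0 : n.toAdd ≠ 0 := fun e => hn1 (Multiplicative.toAdd.injective (by rw [e]; rfl))
    exact ha (hsr _ h0 a (congrArg Multiplicative.toAdd hn))
  haveI : Finite (Multiplicative V) := ‹Finite V›
  haveI : Nontrivial (Multiplicative V) := ‹Nontrivial V›
  rcases CfsgLib.Structure81.isCyclic_or_quaternion_of_fpf hG hfpf with h | ⟨n, hn⟩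
  · exact Or.inl h
  · exact Or.inr ⟨2 ^ n, hn⟩

variable [Finite V]

/-- With `q = p` a half-transitive `p`-group is trivial. -/
theorem eq_one_of_prime_eq [Nontrivial V] (hG : IsPGroup q G) (ρ : G →* (V ≃ₗ[ZMod q] V))
    (hρ : Function.Injective ρ)
    (hhalf : ∀ v w : V, v ≠ 0 → w ≠ 0 →
      Nat.card {u : V | ∃ g : G, ρ g v = u} = Nat.card {u : V | ∃ g : G, ρ g w = u}) (g : G) :
    g = 1 := by
  letI : MulAction G V :=
    { smul := fun g v => ρ g v
      one_smul := fun v => by show ρ 1 v = v; rw [map_one, LinearEquiv.coe_one, id_eq]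
      mul_smul := fun a b v => apply_mul ρ a b v }
  obtain ⟨v₁, hv₁⟩ := exists_ne (0 : V)
  have hord : addOrderOf v₁ = q := addOrderOf_eq_prime
    (by rw [← Nat.cast_smul_eq_nsmul (ZMod q), ZMod.natCast_self, zero_smul]) hv₁
  have hd : q ∣ Nat.card V := hord ▸ addOrderOf_dvd_natCard v₁
  obtain ⟨b, hb, hne⟩ := hG.exists_fixed_point_of_prime_dvd_card_of_fixed_point V hd
    (a := (0 : V)) (fun g => map_zero (ρ g))
  have hbtop : St ρ b = ⊤ := eq_top_iff.2 fun g _ => hb g
  refine eq_one_of_fix hρ fun v => ?_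
  rcases eq_or_ne v 0 with rfl | hv
  · exact map_zero _
  have : St ρ v = ⊤ := Subgroup.eq_top_of_card_eq _ (by
    rw [card_St_eq ρ hhalf hv hne.symm, hbtop, Subgroup.card_top])
  exact mem_St.1 (this ▸ Subgroup.mem_top g)

/-- A non-semiregular half-transitive group is irreducible. -/
theorem irreducible (ρ : G →* (V ≃ₗ[ZMod q] V)) (hρ : Function.Injective ρ)
    (hcop : ¬ q ∣ Nat.card G)
    (hhalf : ∀ v w : V, v ≠ 0 → w ≠ 0 →
      Nat.card {u : V | ∃ g : G, ρ g v = u} = Nat.card {u : V | ∃ g : G, ρ g w = u})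
    (hst : ∀ v : V, v ≠ 0 → St ρ v ≠ ⊥)
    (W : AddSubgroup V) (hW : ∀ g, ∀ x ∈ W, ρ g x ∈ W) : W = ⊥ ∨ W = ⊤ := by
  by_contra hcon
  push Not at hcon
  obtain ⟨hWb, hWt⟩ := hcon
  obtain ⟨C, hC, hinf, hsup⟩ := CfsgLib.Coprime85.exists_invariant_compl_add q hcop
    (fun g => (ρ g : V ≃ₗ[ZMod q] V).toAddMonoidHom)
    (fun x => by simp) (fun a b x => by simp) W hW
  have hCb : C ≠ ⊥ := fun h => hWt (by rw [← hsup, h, sup_bot_eq])
  obtain ⟨u, hu, hu0⟩ := W.bot_or_exists_ne_zero.resolve_left hWb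
  obtain ⟨w, hw, hw0⟩ := C.bot_or_exists_ne_zero.resolve_left hCb
  have huniq : ∀ a ∈ W, ∀ c ∈ C, a + c = 0 → a = 0 := fun a ha c hc h => by
    have : a ∈ W ⊓ C := ⟨ha, by rw [eq_neg_of_add_eq_zero_left h]; exact C.neg_mem hc⟩
    rwa [hinf, AddSubgroup.mem_bot] at this
  have key : ∀ a ∈ W, a ≠ 0 → ∀ c ∈ C, c ≠ 0 → St ρ a = St ρ c := by
    intro a ha ha0 c hc hc0
    have hac : a + c ≠ 0 := fun h => ha0 (huniq a ha c hc h)
    have hle : St ρ (a + c) ≤ St ρ a ⊓ St ρ c := by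
      intro g hg
      rw [mem_St, map_add] at hg
      have e : ρ g a - a + (ρ g c - c) = 0 := by
        rw [show ρ g a - a + (ρ g c - c) = ρ g a + ρ g c - (a + c) by abel, hg, sub_self]
      have h1 : ρ g a = a :=
        sub_eq_zero.1 (huniq _ (W.sub_mem (hW g a ha) ha) _ (C.sub_mem (hC g c hc) hc) e)
      exact ⟨h1, by rw [h1, add_right_inj] at hg; exact hg⟩
    rw [← eq_of_le_St ρ hhalf hac ha0 (hle.trans inf_le_left),
      ← eq_of_le_St ρ hhalf hac hc0 (hle.trans inf_le_right)]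
  refine hst u hu0 ((Subgroup.eq_bot_iff_forall _).2 fun g hg => eq_one_of_fix hρ fun v => ?_)
  have hgC : ∀ c ∈ C, ρ g c = c := fun c hc => by
    rcases eq_or_ne c 0 with rfl | hc0
    · exact map_zero _
    · exact (key u hu hu0 c hc hc0 ▸ hg : g ∈ St ρ c)
  have hgW : ∀ a ∈ W, ρ g a = a := fun a ha => by
    rcases eq_or_ne a 0 with rfl | ha0
    · exact map_zero _
    · exact ((key a ha ha0 w hw hw0).trans (key u hu hu0 w hw hw0).symm ▸ hg : g ∈ St ρ a)
  obtain ⟨a, ha, c, hc, rfl⟩ := AddSubgroup.mem_sup.1 (hsup.symm ▸ AddSubgroup.mem_top v)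
  rw [map_add, hgW a ha, hgC c hc]

/-- A nontrivial normal subgroup fixes no nonzero vector of an irreducible faithful module. -/
theorem fix_normal (ρ : G →* (V ≃ₗ[ZMod q] V)) (hρ : Function.Injective ρ)
    (hirr : ∀ W : AddSubgroup V, (∀ g, ∀ x ∈ W, ρ g x ∈ W) → W = ⊥ ∨ W = ⊤)
    (N : Subgroup G) [hN : N.Normal] (hNne : N ≠ ⊥) {v : V} (hv : ∀ n ∈ N, ρ n v = v) : v = 0 := by
  let W : AddSubgroup V :=
    { carrier := {x | ∀ n ∈ N, ρ n x = x}
      zero_mem' := fun n _ => map_zero _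
      add_mem' := fun {a b} ha hb n hn => by rw [map_add, ha n hn, hb n hn]
      neg_mem' := fun {a} ha n hn => by rw [map_neg, ha n hn] }
  have hW : ∀ g, ∀ x ∈ W, ρ g x ∈ W := fun g x hx n hn => by
    have h := hx _ (hN.conj_mem n hn g⁻¹)
    rw [inv_inv] at h
    conv_rhs => rw [← h]
    rw [← apply_mul, ← apply_mul]
    congr 2
    group
  rcases hirr W hW with h | h
  · have : v ∈ W := hv
    rwa [h, AddSubgroup.mem_bot] at this
  · refine absurd ((Subgroup.eq_bot_iff_forall _).2 fun n hn => eq_one_of_fix hρ fun x => ?_) hNne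
    have : x ∈ W := h ▸ AddSubgroup.mem_top x
    exact this n hn

end CfsgLib.Recog45.HalfTransitive
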