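import Mathlib
import Cfsg.Agent.Lib.Recog45.HalfTransitive.Setup

/-!
The case of a normal elementary abelian subgroup of order `p²` (helper45).
-/

set_option autoImplicit false

namespace CfsgLib.Recog45.HalfTransitive

theorem pow_eq_two_pow_add_one {q d a : ℕ} (hq : q.Prime) (hd : 1 ≤ d) (h : q ^ d = 2 ^ a + 1) :
    d = 1 ∨ (q = 3 ∧ d = 2) := by
  rcases Nat.eq_zero_or_pos a with rfl | ha
  · left
    have h2 : (q ^ d).Prime := by rw [h]; exact Nat.prime_two
    exact (Nat.Prime.pow_eq_iff Nat.prime_two).1 (by rw [h]; rfl) |>.2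
  rcases Nat.even_or_odd d with ⟨k, rfl⟩ | hodd
  · right
    have hk : 1 ≤ k := by omega
    have hq1 : 1 ≤ q ^ k := Nat.one_le_pow _ _ hq.pos
    obtain ⟨r, hr⟩ : ∃ r, q ^ k = r + 1 := ⟨q ^ k - 1, by omega⟩
    have h2 : r * (r + 2) = 2 ^ a := by
      rw [pow_add, hr] at h
      nlinarith
    obtain ⟨i, -, hi⟩ := (Nat.dvd_prime_pow Nat.prime_two).1 ⟨r + 2, h2.symm⟩
    obtain ⟨j, -, hj⟩ := (Nat.dvd_prime_pow Nat.prime_two).1 ⟨r, (mul_comm _ r ▸ h2).symm⟩
    have hi1 : i = 1 := by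
      rcases Nat.lt_or_ge i 2 with h' | h'
      · rcases Nat.eq_zero_or_pos i with rfl | h''
        · rw [hi, pow_zero] at hj
          rcases Nat.eq_zero_or_pos j with rfl | hj'
          · simp at hj
          · have : 2 ∣ 1 + 2 := hj ▸ dvd_pow_self 2 hj'.ne'
            omega
        · omega
      · exfalso
        have h4 : 4 ∣ r := hi ▸ (pow_dvd_pow 2 h' : 2 ^ 2 ∣ 2 ^ i)
        have := Nat.two_pow_pos i
        rcases Nat.lt_or_ge j 2 with h'' | h''
        · interval_cases j <;> simp at hj <;> omega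
        · have : 4 ∣ r + 2 := hj ▸ (pow_dvd_pow 2 h'' : 2 ^ 2 ∣ 2 ^ j)
          omega
    rw [hi, hi1] at hr
    have h3 := (Nat.Prime.pow_eq_iff Nat.prime_three).1 (show q ^ k = 3 from hr)
    exact ⟨h3.1, by omega⟩
  · left
    by_contra hd1
    have hqodd : Odd q := by
      rcases hq.eq_two_or_odd' with rfl | h'
      · have h1 : 2 ∣ 2 ^ d := dvd_pow_self 2 (by omega)
        have h2 : 2 ∣ 2 ^ a := dvd_pow_self 2 (by omega)
        omega
      · exact h'
    have hsum : Odd (∑ i ∈ Finset.range d, q ^ i) := by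
      rw [Finset.odd_sum_iff_odd_card_odd,
        Finset.filter_true_of_mem (fun i _ => hqodd.pow), Finset.card_range]
      exact hodd
    have hg := geom_sum_mul_add (q - 1) d
    rw [show q - 1 + 1 = q by have := hq.two_le; omega] at hg
    have hdvd : (∑ i ∈ Finset.range d, q ^ i) ∣ 2 ^ a :=
      ⟨q - 1, by omega⟩
    obtain ⟨i, -, hi⟩ := (Nat.dvd_prime_pow Nat.prime_two).1 hdvd
    rcases Nat.eq_zero_or_pos i with rfl | hi0
    · have hle : ∑ i ∈ ({0, 1} : Finset ℕ), q ^ i ≤ ∑ i ∈ Finset.range d, q ^ i :=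
        Finset.sum_le_sum_of_subset (by
          intro x hx
          simp at hx
          rw [Finset.mem_range]
          omega)
      rw [hi, Finset.sum_pair (by norm_num), pow_zero, pow_one] at hle
      have := hq.two_le
      omega
    · have : Even (∑ i ∈ Finset.range d, q ^ i) := by
        rw [hi]; exact (even_two.pow_of_ne_zero hi0.ne')
      exact Nat.not_even_iff_odd.2 hsum this

variable {q : ℕ} [Fact q.Prime] {V : Type*} [AddCommGroup V] [Module (ZMod q) V]
variable {G : Type*} [Group G]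

/-- the sum over the powers of an element of exponent `p` is fixed by it -/
theorem fix_pow_sum (ρ : G →* (V ≃ₗ[ZMod q] V)) {y : G} {p : ℕ} (hy : y ^ p = 1) (v : V) :
    ρ y (∑ j ∈ Finset.range p, ρ (y ^ j) v) = ∑ j ∈ Finset.range p, ρ (y ^ j) v := by
  rw [map_sum]
  rw [show ∑ j ∈ Finset.range p, ρ y (ρ (y ^ j) v) = ∑ j ∈ Finset.range p, ρ (y ^ (j + 1)) v from
    Finset.sum_congr rfl fun j _ => by rw [← apply_mul, ← pow_succ']]
  have h1 := Finset.sum_range_succ' (fun j => ρ (y ^ j) v) p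
  have h2 := Finset.sum_range_succ (fun j => ρ (y ^ j) v) p
  rw [h2, hy, pow_zero] at h1
  exact (add_right_cancel h1).symm

/-- The data of a normal elementary abelian subgroup `⟨z, e⟩` with `z` central. -/
structure Pair (ρ : G →* (V ≃ₗ[ZMod q] V)) (p : ℕ) where
  /-- central element -/
  z : G
  /-- second generator -/
  e : G
  z_central : ∀ g, Commute g z
  z_ord : orderOf z = p
  e_pow : e ^ p = 1
  e_notMem : e ∉ Subgroup.zpowers z
  comm_mem : ∀ g, g * e * g⁻¹ * e⁻¹ ∈ Subgroup.zpowers z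
  z_fix : ∀ v, ρ z v = v → v = 0

variable {p : ℕ} [Fact p.Prime] {ρ : G →* (V ≃ₗ[ZMod q] V)}

namespace Pair

variable (D : Pair ρ p)

/-- the elements of the complementary lines -/
def el (i : ZMod p) : G := D.e * D.z ^ i.val

theorem z_pow : D.z ^ p = 1 :=
  (congrArg (D.z ^ ·) D.z_ord.symm).trans (pow_orderOf_eq_one _)

theorem z_add (i j : ZMod p) : D.z ^ (i + j).val = D.z ^ i.val * D.z ^ j.val := by
  rw [← pow_add, ZMod.val_add, ← pow_eq_pow_mod _ D.z_pow]

theorem el_pow (i : ZMod p) : D.el i ^ p = 1 := by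
  rw [el, (show Commute D.e (D.z ^ i.val) from (D.z_central D.e).pow_right _).mul_pow, D.e_pow,
    one_mul, ← pow_mul, mul_comm, pow_mul, D.z_pow, one_pow]

theorem el_commute (i j : ZMod p) : Commute (D.el i) (D.el j) := by
  have h1 : Commute D.e (D.z ^ j.val) := (D.z_central D.e).pow_right _
  have h2 : Commute (D.z ^ i.val) D.e := ((D.z_central D.e).pow_right _).symm
  exact ((Commute.refl D.e).mul_right h1).mul_left (h2.mul_right (((Commute.refl D.z).pow_left _).pow_right _))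

theorem exists_shift (g : G) : ∃ c : ZMod p, ∀ i, g * D.el i * g⁻¹ = D.el (i + c) := by
  obtain ⟨k, hk⟩ := Subgroup.mem_zpowers_iff.1 (D.comm_mem g)
  refine ⟨(k : ZMod p), fun i => ?_⟩
  have hz : D.z ^ ((k : ZMod p)).val = D.z ^ k := by
    rw [← zpow_natCast, ZMod.val_intCast]
    exact (congrArg (fun t : ℕ => D.z ^ (k % (t : ℤ))) D.z_ord.symm).trans (zpow_mod_orderOf _ _)
  have he : g * D.e * g⁻¹ = D.z ^ k * D.e := by rw [hk]; group
  rw [el, el, D.z_add, hz, show g * (D.e * D.z ^ i.val) * g⁻¹ =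
    (g * D.e * g⁻¹) * (g * D.z ^ i.val * g⁻¹) by group, he,
    ((D.z_central g).pow_right i.val).eq, mul_inv_cancel_right,
    ← ((D.z_central D.e).zpow_right k).eq, mul_assoc]
  congr 1
  exact (((Commute.refl D.z).zpow_left k).pow_right i.val).eq

/-- the shift -/
noncomputable def c (g : G) : ZMod p := (D.exists_shift g).choose

theorem conj_el (g : G) (i : ZMod p) : g * D.el i * g⁻¹ = D.el (i + D.c g) :=
  (D.exists_shift g).choose_spec i

theorem el_injective : Function.Injective D.el := by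
  intro i j h
  have h1 := mul_left_cancel h
  rw [pow_eq_pow_iff_modEq, D.z_ord, Nat.ModEq, Nat.mod_eq_of_lt (ZMod.val_lt i),
    Nat.mod_eq_of_lt (ZMod.val_lt j)] at h1
  exact ZMod.val_injective p h1

theorem c_mul (g h : G) : D.c (g * h) = D.c g + D.c h := by
  have h1 : g * h * D.el 0 * (g * h)⁻¹ = D.el (D.c g + D.c h) := by
    rw [show g * h * D.el 0 * (g * h)⁻¹ = g * (h * D.el 0 * h⁻¹) * g⁻¹ by group, D.conj_el,
      D.conj_el, zero_add, add_comm]
  rw [D.conj_el, zero_add] at h1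
  exact D.el_injective h1

theorem c_one : D.c 1 = 0 := by simpa using D.c_mul 1 1

theorem c_inv (g : G) : D.c g⁻¹ = -D.c g := by
  have := D.c_mul g g⁻¹
  rw [mul_inv_cancel, D.c_one] at this
  exact eq_neg_of_add_eq_zero_right this.symm

theorem c_pow (g : G) (n : ℕ) : D.c (g ^ n) = n * D.c g := by
  induction n with
  | zero => simp [D.c_one]
  | succ n ih => rw [pow_succ, D.c_mul, ih]; push_cast; ring

/-- fixed space of a line -/
def Vi (i : ZMod p) : AddSubgroup V where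
  carrier := {x | ρ (D.el i) x = x}
  zero_mem' := map_zero _
  add_mem' := fun {a b} ha hb => by
    show ρ (D.el i) (a + b) = a + b
    rw [map_add, show ρ (D.el i) a = a from ha, show ρ (D.el i) b = b from hb]
  neg_mem' := fun {a} ha => by
    show ρ (D.el i) (-a) = -a
    rw [map_neg, show ρ (D.el i) a = a from ha]

theorem mem_Vi {i : ZMod p} {x : V} : x ∈ D.Vi i ↔ ρ (D.el i) x = x := Iff.rfl

theorem apply_mem_Vi (g : G) {i : ZMod p} {x : V} (hx : x ∈ D.Vi i) :
    ρ g x ∈ D.Vi (i + D.c g) := by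
  rw [mem_Vi] at hx ⊢
  rw [← D.conj_el, ← apply_mul, inv_mul_cancel_right, apply_mul, hx]

theorem eq_zero_of_mem {i j : ZMod p} (hij : i ≠ j) {x : V} (hi : x ∈ D.Vi i) (hj : x ∈ D.Vi j) :
    x = 0 := by
  rw [mem_Vi] at hi hj
  have h : ρ (D.z ^ (j - i).val) x = x := by
    have he : D.el j = D.z ^ (j - i).val * D.el i := by
      rw [((D.z_central (D.el i)).pow_right _).symm.eq, el, el, mul_assoc, ← D.z_add]
      simp
    rw [he, apply_mul, hi] at hj
    exact hj
  have hmem : D.z ^ (j - i).val ∈ St ρ x := h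
  have hne : D.z ^ (j - i).val ≠ 1 := by
    intro h1
    have hd := orderOf_dvd_of_pow_eq_one h1
    have := Nat.eq_zero_of_dvd_of_lt (D.z_ord.symm.dvd.trans hd) (ZMod.val_lt (j - i))
    rw [ZMod.val_eq_zero, sub_eq_zero] at this
    exact hij this.symm
  obtain ⟨k, hk⟩ := mem_powers_of_prime_card (G := Subgroup.zpowers D.z)
    (by rw [Nat.card_zpowers, D.z_ord]) (g := ⟨D.z ^ (j - i).val, pow_mem (Subgroup.mem_zpowers _) _⟩)
    (g' := ⟨D.z, Subgroup.mem_zpowers _⟩) (fun h1 => hne (congrArg Subtype.val h1))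
  have hz : D.z ∈ St ρ x := by
    have := congrArg Subtype.val hk
    simp only [SubmonoidClass.coe_pow] at this
    rw [← this]
    exact pow_mem hmem k
  exact D.z_fix x hz

/-- projection -/
noncomputable def proj (i : ZMod p) (v : V) : V :=
  (p : ZMod q)⁻¹ • ∑ j ∈ Finset.range p, ρ (D.el i ^ j) v

theorem proj_mem (i : ZMod p) (v : V) : D.proj i v ∈ D.Vi i := by
  rw [mem_Vi, proj, map_smul, fix_pow_sum ρ (D.el_pow i)]

theorem proj_of_mem (hpq : (p : ZMod q) ≠ 0) {i : ZMod p} {x : V} (hx : x ∈ D.Vi i) :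
    D.proj i x = x := by
  have h : ∀ j : ℕ, ρ (D.el i ^ j) x = x := fun j => (St ρ x).pow_mem hx j
  rw [proj, Finset.sum_congr rfl fun j _ => h j, Finset.sum_const, Finset.card_range,
    ← Nat.cast_smul_eq_nsmul (ZMod q), smul_smul, inv_mul_cancel₀ hpq, one_smul]

theorem proj_of_mem_ne {i k : ZMod p} (hik : i ≠ k) {x : V} (hx : x ∈ D.Vi i) :
    D.proj k x = 0 := by
  refine D.eq_zero_of_mem hik ?_ (D.proj_mem k x)
  rw [mem_Vi, proj, map_smul, map_sum]
  congr 1
  refine Finset.sum_congr rfl fun j _ => ?_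
  rw [← apply_mul, ((D.el_commute i k).pow_right j).eq, apply_mul, D.mem_Vi.1 hx]

theorem proj_add (i : ZMod p) (x y : V) : D.proj i (x + y) = D.proj i x + D.proj i y := by
  simp [proj, map_add, Finset.sum_add_distrib, smul_add]

theorem sum_proj (hpq : (p : ZMod q) ≠ 0) (v : V) : ∑ i, D.proj i v = v := by
  simp only [proj, ← Finset.smul_sum]
  rw [Finset.sum_comm]
  have key : ∀ j ∈ Finset.range p, j ≠ 0 → ∑ i : ZMod p, ρ (D.el i ^ j) v = 0 := by
    intro j hj hj0
    rw [Finset.mem_range] at hj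
    refine D.z_fix _ ?_
    rw [map_sum]
    have hcast : (j : ZMod p) ≠ 0 := fun h => hj0
      (Nat.eq_zero_of_dvd_of_lt ((ZMod.natCast_eq_zero_iff _ _).1 h) hj)
    refine Fintype.sum_equiv (Equiv.addRight (j : ZMod p)⁻¹) _ _ fun i => ?_
    rw [← apply_mul, Equiv.coe_addRight]
    congr 2
    have hc : ∀ i : ZMod p, D.el i ^ j = D.e ^ j * D.z ^ ((j : ZMod p) * i).val := fun i => by
      rw [el, (show Commute D.e (D.z ^ i.val) from (D.z_central D.e).pow_right _).mul_pow,
        ← pow_mul]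
      congr 1
      rw [pow_eq_pow_mod _ D.z_pow, pow_eq_pow_mod ((j : ZMod p) * i).val D.z_pow, ZMod.val_mul,
        Nat.mod_mod, ZMod.val_natCast, Nat.mod_mul_mod, mul_comm]
    rw [hc, hc, mul_add, mul_inv_cancel₀ hcast, D.z_add, ZMod.val_one, pow_one, ← mul_assoc,
      ((D.z_central (D.e ^ j)).symm).eq, mul_assoc,
      ((Commute.refl D.z).pow_left ((j : ZMod p) * i).val).eq]
  rw [Finset.sum_eq_single 0 key (fun h => absurd (Finset.mem_range.2 (Fact.out : p.Prime).pos) h)]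
  simp only [pow_zero, map_one, LinearEquiv.coe_one, id_eq, Finset.sum_const, Finset.card_univ,
    ZMod.card]
  rw [← Nat.cast_smul_eq_nsmul (ZMod q), smul_smul, inv_mul_cancel₀ hpq, one_smul]

/-- an element fixing the sum of two homogeneous vectors -/
theorem fix_pair (hpq : (p : ZMod q) ≠ 0) {i k : ZMod p} (hik : i ≠ k) {v w : V}
    (hv : v ∈ D.Vi i) (hw : w ∈ D.Vi k) (hv0 : v ≠ 0) {g : G} (hg : ρ g (v + w) = v + w) :
    (D.c g = 0 ∧ ρ g v = v ∧ ρ g w = w) ∨
      (D.c g ≠ 0 ∧ k + D.c g = i ∧ ρ g w = v ∧ (i + D.c g = k → ρ g v = w)) := by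
  rw [map_add] at hg
  have hgv := D.apply_mem_Vi g hv
  have hgw := D.apply_mem_Vi g hw
  have hi := congrArg (D.proj i) hg
  rw [D.proj_add, D.proj_add, D.proj_of_mem hpq hv, D.proj_of_mem_ne (Ne.symm hik) hw,
    add_zero] at hi
  by_cases hc : D.c g = 0
  · rw [hc, add_zero] at hgv hgw
    rw [D.proj_of_mem hpq hgv, D.proj_of_mem_ne (Ne.symm hik) hgw, add_zero] at hi
    exact Or.inl ⟨hc, hi, by rwa [hi, add_right_inj] at hg⟩
  · right
    rw [D.proj_of_mem_ne (fun h => hc (add_eq_left.1 h)) hgv, zero_add] at hi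
    have hki : k + D.c g = i := by
      by_contra h
      rw [D.proj_of_mem_ne h hgw] at hi
      exact hv0 hi.symm
    rw [hki] at hgw
    rw [D.proj_of_mem hpq hgw] at hi
    refine ⟨hc, hki, hi, fun _ => ?_⟩
    rwa [hi, add_comm v w, add_left_inj] at hg

theorem exists_c_one [Nontrivial V] (hρ : Function.Injective ρ) (hpq : (p : ZMod q) ≠ 0)
    (hirr : ∀ W : AddSubgroup V, (∀ g, ∀ x ∈ W, ρ g x ∈ W) → W = ⊥ ∨ W = ⊤) :
    ∃ g, D.c g = 1 := by
  obtain ⟨g, hg⟩ : ∃ g, D.c g ≠ 0 := by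
    by_contra h
    push Not at h
    have hall : ∀ i, D.Vi i = ⊥ := by
      intro i
      refine (hirr (D.Vi i) fun g x hx => by simpa [h g] using D.apply_mem_Vi g hx).resolve_right
        fun htop => D.e_notMem ?_
      have h1 : D.el i = 1 := eq_one_of_fix hρ fun x => D.mem_Vi.1 (htop ▸ AddSubgroup.mem_top x)
      rw [el, mul_eq_one_iff_eq_inv] at h1
      rw [h1]
      exact Subgroup.inv_mem _ (Subgroup.pow_mem _ (Subgroup.mem_zpowers _) _)
    obtain ⟨v, hv⟩ := exists_ne (0 : V)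
    refine hv ?_
    rw [← D.sum_proj hpq v]
    exact Finset.sum_eq_zero fun i _ => by
      have := D.proj_mem i v
      rwa [hall i, AddSubgroup.mem_bot] at this
  exact ⟨g ^ ((D.c g)⁻¹).val, by rw [D.c_pow, ZMod.natCast_zmod_val, inv_mul_cancel₀ hg]⟩

theorem exists_mem_ne_zero [Nontrivial V] (hρ : Function.Injective ρ) (hpq : (p : ZMod q) ≠ 0)
    (hirr : ∀ W : AddSubgroup V, (∀ g, ∀ x ∈ W, ρ g x ∈ W) → W = ⊥ ∨ W = ⊤) (i : ZMod p) :
    ∃ x ∈ D.Vi i, x ≠ 0 := by
  obtain ⟨g, hg⟩ := D.exists_c_one hρ hpq hirr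
  obtain ⟨v, hv⟩ := exists_ne (0 : V)
  obtain ⟨k, hk⟩ : ∃ k, D.proj k v ≠ 0 := by
    by_contra h
    push Not at h
    exact hv (by rw [← D.sum_proj hpq v]; exact Finset.sum_eq_zero fun i _ => h i)
  refine ⟨ρ (g ^ (i - k).val) (D.proj k v), ?_, fun h => hk ((map_eq_zero_iff _ (LinearEquiv.injective _)).1 h)⟩
  have := D.apply_mem_Vi (g ^ (i - k).val) (D.proj_mem k v)
  rwa [D.c_pow, hg, mul_one, ZMod.natCast_zmod_val, add_sub_cancel] at this

end Pair

end CfsgLib.Recog45.HalfTransitive
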