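import Mathlib
import Cfsg.Agent.Lib.Recog45.HalfTransitive.Setup
import Cfsg.Agent.Lib.TwoGroups.Semidihedral

/-!
Half-transitive `2`-groups with a cyclic subgroup of index two (helper45).
-/

set_option autoImplicit false

namespace CfsgLib.Recog45.HalfTransitive

theorem exponent_eq_one {q h k : ℕ} (hq : q.Prime) (hh : 1 ≤ h) (hk : 2 ≤ k)
    (e : q ^ h + 1 = 2 ^ k) : h = 1 := by
  have h4 : 4 ∣ 2 ^ k := (pow_dvd_pow 2 hk : 2 ^ 2 ∣ 2 ^ k)
  have hqodd : Odd q := by
    rcases hq.eq_two_or_odd' with rfl | h'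
    · have h1 : 2 ∣ 2 ^ h := dvd_pow_self 2 (by omega)
      omega
    · exact h'
  rcases Nat.even_or_odd h with ⟨l, rfl⟩ | hodd
  · exfalso
    obtain ⟨r, hr⟩ := hqodd.pow (n := l)
    rw [pow_add, hr] at e
    have : (2 * r + 1) * (2 * r + 1) = 4 * (r * r + r) + 1 := by ring
    omega
  · obtain ⟨l, rfl⟩ := hodd
    have hd : q + 1 ∣ 2 ^ k := by
      rw [← e]
      simpa using Odd.nat_add_dvd_pow_add_pow q 1 (odd_two_mul_add_one l)
    obtain ⟨i, hik, hi⟩ := (Nat.dvd_prime_pow Nat.prime_two).1 hd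
    have hmod : ((q ^ (2 * l + 1) + 1 : ℕ) : ZMod (2 ^ (i + 1))) = ((q + 1 : ℕ) : ZMod (2 ^ (i + 1))) := by
      obtain ⟨r, hr⟩ := hqodd
      have hq2 : ((q : ZMod (2 ^ (i + 1))) ^ 2) = 1 := by
        have h0 : (((q + 1) * (2 * r) : ℕ) : ZMod (2 ^ (i + 1))) = 0 := by
          rw [ZMod.natCast_eq_zero_iff]
          exact ⟨r, by rw [hi, pow_succ]; ring⟩
        push_cast at h0
        have hq' : (q : ZMod (2 ^ (i + 1))) = 2 * r + 1 := by exact_mod_cast congrArg Nat.cast hr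
        linear_combination h0 + ((q : ZMod (2 ^ (i + 1))) + 1) * hq'
      push_cast
      rw [pow_succ (q : ZMod (2 ^ (i + 1))) (2 * l), pow_mul, hq2, one_pow, one_mul]
    rw [e, hi] at hmod
    have hki : k = i := by
      by_contra hne
      have h0 : ((2 ^ k : ℕ) : ZMod (2 ^ (i + 1))) = 0 := by
        rw [ZMod.natCast_eq_zero_iff]
        exact pow_dvd_pow 2 (by omega)
      rw [h0, eq_comm, ZMod.natCast_eq_zero_iff] at hmod
      have := (Nat.pow_dvd_pow_iff_le_right (by norm_num : 1 < 2)).1 hmod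
      omega
    have : q ^ (2 * l + 1) = q ^ 1 := by
      subst hki
      rw [pow_one]
      omega
    exact Nat.pow_right_injective hq.two_le this

variable {q : ℕ} [Fact q.Prime] {V : Type*} [AddCommGroup V] [Module (ZMod q) V] [Finite V]
variable {G : Type*} [Group G] [Finite G] {ρ : G →* (V ≃ₗ[ZMod q] V)}

/-- Counting the eigenspaces of the involutions outside `A`. -/
theorem count_involutions [Nontrivial V] (hq2 : (2 : ZMod q) ≠ 0)
    (hst : ∀ v : V, v ≠ 0 → St ρ v ≠ ⊥) (A : Subgroup G) (hA : A.index = 2)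
    (hsemi : ∀ a ∈ A, ∀ v : V, v ≠ 0 → ρ a v = v → a = 1)
    (z : G) (hzA : z ∈ A) (hz1 : z ≠ 1) (hz2 : z * z = 1)
    (T : Finset G) (hT : ∀ t, t ∈ T ↔ t ∉ A ∧ t * t = 1)
    (hconj : ∀ t ∈ T, ∃ g, g * t * g⁻¹ = t * z) (k : ℕ) (hk : 2 ≤ k) (hcard : T.card = 2 ^ k) :
    Nat.card V = q ^ 2 ∧ q + 1 = 2 ^ k := by
  classical
  have hz : ∀ v, ρ z v = -v := fun v => by
    have h : ρ z (v + ρ z v) = v + ρ z v := by
      rw [map_add, ← apply_mul, hz2, map_one, LinearEquiv.coe_one, id_eq, add_comm]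
    by_contra hne
    exact hz1 (hsemi z hzA _ (fun e => hne (eq_neg_of_add_eq_zero_right e)) h)
  have hsq : ∀ t, t * t ∈ A := fun t => Subgroup.mul_self_mem_of_index_two hA t
  have hex : ∀ v : V, v ≠ 0 → ∃ t ∈ T, ρ t v = v := by
    intro v hv
    obtain ⟨⟨t, ht⟩, ht1⟩ := (St ρ v).ne_bot_iff_exists_ne_one.1 (hst v hv)
    refine ⟨t, (hT t).2 ⟨fun htA => ht1 (Subtype.ext (hsemi t htA v hv ht)), ?_⟩, ht⟩
    exact hsemi _ (hsq t) v hv ((St ρ v).mul_mem ht ht)
  have huniq : ∀ v : V, v ≠ 0 → ∀ t ∈ T, ∀ t' ∈ T, ρ t v = v → ρ t' v = v → t = t' := by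
    intro v hv t ht t' ht' h h'
    have hm : t * t' ∈ A := (Subgroup.mul_mem_iff_of_index_two hA).2
      (iff_of_false ((hT t).1 ht).1 ((hT t').1 ht').1)
    have h1 := hsemi _ hm v hv ((St ρ v).mul_mem h h')
    rw [mul_eq_one_iff_eq_inv] at h1
    rw [h1, inv_eq_of_mul_eq_one_right ((hT t').1 ht').2]
  have hfix : ∀ t ∈ T, Nat.card {x : V // ρ t x = x} * Nat.card {x : V // ρ t x = x} = Nat.card V := by
    intro t ht
    have htt := ((hT t).1 ht).2
    obtain ⟨g, hg⟩ := hconj t ht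
    have e1 : Nat.card {x : V // ρ t x = x} = Nat.card {x : V // ρ t x = -x} := by
      refine Nat.card_congr (Equiv.subtypeEquiv (ρ g).toEquiv fun x => ?_)
      show ρ t x = x ↔ ρ t (ρ g x) = -ρ g x
      have h : ρ t (ρ g x) = -ρ g (ρ t x) := by
        have e : t * g = z⁻¹ * (g * t) → ρ t (ρ g x) = -ρ g (ρ t x) := fun e => by
          rw [← apply_mul, e, inv_eq_of_mul_eq_one_right hz2, apply_mul, hz, apply_mul]
        refine e ?_
        have hzc : t * z = z * t := by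
          obtain ⟨v, hv⟩ := exists_ne (0 : V)
          have hn : A.Normal := Subgroup.normal_of_index_eq_two hA
          have hm : (z * t)⁻¹ * (t * z) ∈ A := by
            rw [show (z * t)⁻¹ * (t * z) = (t⁻¹ * z⁻¹ * t⁻¹⁻¹) * z by group]
            exact A.mul_mem (hn.conj_mem _ (A.inv_mem hzA) t⁻¹) hzA
          exact (inv_mul_eq_one.1 (hsemi _ hm v hv (by
            rw [apply_mul, apply_mul ρ t z, hz, map_neg, ← hz (ρ t v), ← apply_mul ρ z t,
              apply_inv_apply]))).symm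
        rw [mul_inv_eq_iff_eq_mul.1 hg, hzc]
        group
      rw [h]
      constructor
      · intro hx; rw [hx]
      · intro hx; exact (LinearEquiv.injective _) (neg_inj.1 hx)
    conv_lhs => rw [e1]; lhs; rw [← e1]
    rw [← Nat.card_prod]
    refine Nat.card_eq_of_bijective (fun x : {x : V // ρ t x = x} × {x : V // ρ t x = -x} =>
      x.1.1 + x.2.1) ⟨fun x y h => ?_, fun v => ?_⟩
    · simp only at h
      have h' := congrArg (ρ t) h
      rw [map_add, map_add, x.1.2, x.2.2, y.1.2, y.2.2] at h'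
      have e : (2 : ZMod q) • x.1.1 = (2 : ZMod q) • y.1.1 := by
        rw [two_smul, two_smul]
        calc x.1.1 + x.1.1 = (x.1.1 + x.2.1) + (x.1.1 + -x.2.1) := by abel
          _ = _ := by rw [h, h']; abel
      have e2 := smul_right_injective V hq2 e
      rw [e2, add_right_inj] at h
      exact Prod.ext (Subtype.ext e2) (Subtype.ext h)
    · have htv : ∀ x, ρ t (ρ t x) = x := fun x => by
        rw [← apply_mul, htt, map_one, LinearEquiv.coe_one, id_eq]
      refine ⟨(⟨(2 : ZMod q)⁻¹ • (v + ρ t v), ?_⟩, ⟨(2 : ZMod q)⁻¹ • (v - ρ t v), ?_⟩), ?_⟩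
      · rw [map_smul, map_add, htv, add_comm]
      · rw [map_smul, map_sub, htv, ← smul_neg, neg_sub]
      · show (2 : ZMod q)⁻¹ • (v + ρ t v) + (2 : ZMod q)⁻¹ • (v - ρ t v) = v
        rw [← smul_add, show v + ρ t v + (v - ρ t v) = (2 : ZMod q) • v by rw [two_smul]; abel,
          smul_smul, inv_mul_cancel₀ hq2, one_smul]
  obtain ⟨t₀, ht₀⟩ : T.Nonempty := Finset.card_pos.1 (by rw [hcard]; positivity)
  set Q := Nat.card {x : V // ρ t₀ x = x} with hQ
  have hQt : ∀ t ∈ T, Nat.card {x : V // ρ t x = x} = Q := fun t ht =>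
    Nat.mul_self_inj.1 ((hfix t ht).trans (hfix t₀ ht₀).symm)
  have hne : ∀ t ∈ T, Nat.card {x : V // x ≠ 0 ∧ ρ t x = x} = Q - 1 := by
    intro t ht
    have h1 : Nat.card {x : V // ρ t x = x} = ({x : V | ρ t x = x} : Set V).ncard :=
      Nat.card_coe_set_eq _
    have h2 : Nat.card {x : V // x ≠ 0 ∧ ρ t x = x} =
        (({x : V | ρ t x = x} : Set V) \ {0}).ncard := by
      rw [← Nat.card_coe_set_eq]
      exact Nat.card_congr (Equiv.subtypeEquivRight fun x => by simp [and_comm])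
    have h3 := Set.ncard_diff_singleton_add_one (s := {x : V | ρ t x = x}) (map_zero (ρ t))
      (Set.toFinite _)
    rw [← hQt t ht, h1, h2]
    omega
  have hsum : Nat.card {x : V // x ≠ 0} = T.card * (Q - 1) := by
    let f : (Σ t : T, {x : V // x ≠ 0 ∧ ρ t.1 x = x}) → {x : V // x ≠ 0} := fun p => ⟨p.2.1, p.2.2.1⟩
    have hf : Function.Bijective f := by
      constructor
      · rintro ⟨⟨t, ht⟩, x, hx0, hx⟩ ⟨⟨t', ht'⟩, y, hy0, hy⟩ h
        have hxy : x = y := congrArg Subtype.val h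
        subst hxy
        obtain rfl := huniq x hx0 t ht t' ht' hx hy
        rfl
      · rintro ⟨x, hx⟩
        obtain ⟨t, ht, h⟩ := hex x hx
        exact ⟨⟨⟨t, ht⟩, x, hx, h⟩, rfl⟩
    rw [← Nat.card_eq_of_bijective f hf, Nat.card_sigma]
    simp [hne, Finset.sum_congr rfl fun (t : T) _ => hne t.1 t.2]
  have hV0 : Nat.card {x : V // x ≠ 0} + 1 = Nat.card V := by
    rw [show Nat.card {x : V // x ≠ 0} = ({0}ᶜ : Set V).ncard from Nat.card_coe_set_eq ({0}ᶜ : Set V),
      Set.ncard_compl, Set.ncard_singleton]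
    have : 0 < Nat.card V := Nat.card_pos
    omega
  have hQ1 : 2 ≤ Q := by
    have h1 : 1 < Nat.card V := Finite.one_lt_card
    rw [← hfix t₀ ht₀] at h1
    by_contra h
    have : Q ≤ 1 := by omega
    nlinarith
  rw [hsum, hcard, ← hfix t₀ ht₀] at hV0
  obtain ⟨Q', hQ'⟩ : ∃ Q', Q = Q' + 1 := ⟨Q - 1, by omega⟩
  rw [← hQ, hQ', Nat.add_sub_cancel] at hV0
  have hQk : Q + 1 = 2 ^ k := by
    have : (Q' + 2) * Q' = 2 ^ k * Q' := by nlinarith
    have := Nat.eq_of_mul_eq_mul_right (by omega) this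
    omega
  obtain ⟨h, hh⟩ : ∃ h, Q = q ^ h := by
    let W : Submodule (ZMod q) V := LinearMap.eqLocus (ρ t₀).toLinearMap LinearMap.id
    refine ⟨Module.finrank (ZMod q) W, ?_⟩
    have := Module.natCard_eq_pow_finrank (K := ZMod q) (V := W)
    rw [Nat.card_zmod] at this
    exact this
  have hh1 : 1 ≤ h := by
    rcases Nat.eq_zero_or_pos h with rfl | h'
    · rw [pow_zero] at hh; omega
    · exact h'
  have := exponent_eq_one Fact.out hh1 hk (hh ▸ hQk)
  rw [this, pow_one] at hh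
  exact ⟨by rw [← hfix t₀ ht₀, ← hQ, hh, pow_two], hh ▸ hQk⟩

end CfsgLib.Recog45.HalfTransitive
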