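import Mathlib
import Cfsg.Agent.Lib.Recog45.HalfTransitive.Imprimitive

/-!
A half-transitive, not semiregular `p`-group with a normal elementary abelian subgroup of order
`p²`: it is monomial on a plane of order `q²`, `q = 2^m + 1`, or the space has `81` elements
(helper45).
-/

set_option autoImplicit false

namespace CfsgLib.Recog45.HalfTransitive

variable {q : ℕ} [Fact q.Prime] {V : Type*} [AddCommGroup V] [Module (ZMod q) V] [Finite V]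
variable {G : Type*} [Group G] [Finite G] {p : ℕ} [Fact p.Prime]
variable {ρ : G →* (V ≃ₗ[ZMod q] V)}

namespace Pair

variable (D : Pair ρ p)

theorem c_eq_zero_of_fix {i : ZMod p} {v : V} (hv : v ∈ D.Vi i) (hv0 : v ≠ 0) {g : G}
    (hg : ρ g v = v) : D.c g = 0 := by
  by_contra hc
  have h := D.apply_mem_Vi g hv
  rw [hg] at h
  exact hv0 (D.eq_zero_of_mem (fun e => hc (add_eq_left.1 e.symm)) hv h)

/-- `p = 2` is forced. -/
theorem p_eq_two (D : Pair ρ p) (hρ : Function.Injective ρ) (hpq : (p : ZMod q) ≠ 0) [Nontrivial V]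
    (hhalf : ∀ v w : V, v ≠ 0 → w ≠ 0 →
      Nat.card {u : V | ∃ g : G, ρ g v = u} = Nat.card {u : V | ∃ g : G, ρ g w = u})
    (hst : ∀ v : V, v ≠ 0 → St ρ v ≠ ⊥)
    (hirr : ∀ W : AddSubgroup V, (∀ g, ∀ x ∈ W, ρ g x ∈ W) → W = ⊥ ∨ W = ⊤) : p = 2 := by
  by_contra hp2
  have key : ∀ i k : ZMod p, i ≠ k → ∀ v ∈ D.Vi i, v ≠ 0 → ∀ w ∈ D.Vi k, w ≠ 0 →
      St ρ v = St ρ w := by
    intro i k hik v hv hv0 w hw hw0
    have hvw : v + w ≠ 0 := fun h => hv0 (D.eq_zero_of_mem hik hv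
      (by rw [eq_neg_of_add_eq_zero_left h]; exact (D.Vi k).neg_mem hw))
    have hle : St ρ (v + w) ≤ St ρ v ⊓ St ρ w := by
      intro g hg
      rcases D.fix_pair hpq hik hv hw hv0 hg with ⟨-, h1, h2⟩ | ⟨hc, hki, -, -⟩
      · exact ⟨h1, h2⟩
      · exfalso
        have hg' : ρ g (w + v) = w + v := by rw [add_comm]; exact hg
        rcases D.fix_pair hpq (Ne.symm hik) hw hv hw0 hg' with ⟨h0, -, -⟩ | ⟨-, hik', -, -⟩
        · exact hc h0
        · have h2 : (2 : ZMod p) * D.c g = 0 := by linear_combination hki + hik'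
          rcases mul_eq_zero.1 h2 with h | h
          · have : ((2 : ℕ) : ZMod p) = 0 := by simpa using h
            rw [ZMod.natCast_eq_zero_iff] at this
            exact hp2 (((Nat.prime_dvd_prime_iff_eq Fact.out Nat.prime_two).1 this))
          · exact hc h
    rw [← eq_of_le_St ρ hhalf hvw hv0 (hle.trans inf_le_left),
      ← eq_of_le_St ρ hhalf hvw hw0 (hle.trans inf_le_right)]
  obtain ⟨v, hv, hv0⟩ := D.exists_mem_ne_zero hρ hpq hirr 0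
  obtain ⟨w, hw, hw0⟩ := D.exists_mem_ne_zero hρ hpq hirr 1
  refine hst v hv0 ((Subgroup.eq_bot_iff_forall _).2 fun g hg => eq_one_of_fix hρ fun x => ?_)
  rw [← D.sum_proj hpq x, map_sum]
  refine Finset.sum_congr rfl fun i _ => ?_
  rcases eq_or_ne (D.proj i x) 0 with h | h
  · rw [h, map_zero]
  rcases eq_or_ne i 0 with rfl | hi
  · exact ((key 0 1 zero_ne_one v hv hv0 w hw hw0).trans
      (key 0 1 zero_ne_one _ (D.proj_mem 0 x) h w hw hw0).symm ▸ hg : g ∈ St ρ _)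
  · exact (key 0 i (Ne.symm hi) v hv hv0 _ (D.proj_mem i x) h ▸ hg : g ∈ St ρ _)

end Pair

theorem zmod_two_cases : ∀ i : ZMod 2, i = 0 ∨ i = 1 := by decide

theorem zmod_two_add : ∀ i j : ZMod 2, i ≠ 0 → j ≠ 0 → i + j = 0 := by decide

/-- The statement for `p = 2`. -/
theorem pair_case_two (hG : IsPGroup 2 G) (D : Pair ρ 2) (hρ : Function.Injective ρ)
    (hpq : ((2 : ℕ) : ZMod q) ≠ 0) [Nontrivial V]
    (hhalf : ∀ v w : V, v ≠ 0 → w ≠ 0 →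
      Nat.card {u : V | ∃ g : G, ρ g v = u} = Nat.card {u : V | ∃ g : G, ρ g w = u})
    (hst : ∀ v : V, v ≠ 0 → St ρ v ≠ ⊥)
    (hirr : ∀ W : AddSubgroup V, (∀ g, ∀ x ∈ W, ρ g x ∈ W) → W = ⊥ ∨ W = ⊤) :
    (Nat.card V = q ^ 2 ∧ (∃ m : ℕ, q = 2 ^ m + 1) ∧
      ∃ e : V ≃ₗ[ZMod q] (Fin 2 → ZMod q), ∀ f : (Fin 2 → ZMod q) ≃ₗ[ZMod q] (Fin 2 → ZMod q),
        (∃ g : G, f = e.symm.trans ((ρ g).trans e)) ↔
        ∃ a s : ZMod q, a ≠ 0 ∧ (s = 1 ∨ s = -1) ∧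
          ((∀ v, f v = ![a * v 0, s * a⁻¹ * v 1]) ∨ (∀ v, f v = ![s * a⁻¹ * v 1, a * v 0]))) ∨
    (Nat.card V = 81 ∧ q = 3) := by
  classical
  have h2 : (2 : ℕ).Prime := Nat.prime_two
  obtain ⟨g₀, hg₀⟩ := D.exists_c_one hρ hpq hirr
  have hcne : ∀ g, D.c g ≠ 0 → D.c g = 1 := fun g h => (zmod_two_cases _).resolve_left h
  have h10 : (1 : ZMod 2) + 1 = 0 := by decide
  have h01 : (0 : ZMod 2) ≠ 1 := zero_ne_one
  -- elements with trivial shift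
  let H : Subgroup G :=
    { carrier := {g | D.c g = 0}
      one_mem' := D.c_one
      mul_mem' := fun {a b} ha hb => by
        show D.c (a * b) = 0
        rw [D.c_mul, show D.c a = 0 from ha, show D.c b = 0 from hb, add_zero]
      inv_mem' := fun {a} ha => by
        show D.c a⁻¹ = 0
        rw [D.c_inv, show D.c a = 0 from ha, neg_zero] }
  have hStH : ∀ i, ∀ v ∈ D.Vi i, v ≠ 0 → St ρ v ≤ H := fun i v hv hv0 g hg =>
    D.c_eq_zero_of_fix hv hv0 hg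
  let Oh : V → Set V := fun x => {u | ∃ h : H, ρ h.1 x = u}
  have hOcard : ∀ i, ∀ v ∈ D.Vi i, v ≠ 0 → Nat.card (Oh v) * Nat.card (St ρ v) = Nat.card H := by
    intro i v hv hv0
    have h := card_orbit_mul_card_St (ρ.comp H.subtype) v
    have hS : Nat.card (St (ρ.comp H.subtype) v) = Nat.card (St ρ v) := by
      have : St (ρ.comp H.subtype) v = (St ρ v).subgroupOf H := rfl
      rw [this]
      exact Nat.card_congr (Subgroup.subgroupOfEquivOfLe (hStH i v hv hv0)).toEquiv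
    rw [hS] at h
    exact h
  have hO_eq : ∀ i j, ∀ v ∈ D.Vi i, v ≠ 0 → ∀ w ∈ D.Vi j, w ≠ 0 →
      Nat.card (Oh v) = Nat.card (Oh w) := by
    intro i j v hv hv0 w hw hw0
    have h1 := hOcard i v hv hv0
    rw [card_St_eq ρ hhalf hv0 hw0, ← hOcard j w hw hw0] at h1
    exact Nat.eq_of_mul_eq_mul_right Nat.card_pos h1
  have hOh_sub : ∀ i, ∀ v ∈ D.Vi i, v ≠ 0 → ∀ u ∈ Oh v, u ∈ D.Vi i ∧ u ≠ 0 := by
    rintro i v hv hv0 _ ⟨⟨h, hh⟩, rfl⟩
    refine ⟨by simpa [show D.c h = 0 from hh] using D.apply_mem_Vi h hv,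
      fun e => hv0 ((map_eq_zero_iff _ (LinearEquiv.injective _)).1 e)⟩
  have hindep : ∀ v ∈ D.Vi 0, ∀ w ∈ D.Vi 1, v + w = 0 → v = 0 := fun v hv w hw h =>
    D.eq_zero_of_mem h01 hv (by rw [eq_neg_of_add_eq_zero_left h]; exact (D.Vi 1).neg_mem hw)
  have hswap : ∀ v ∈ D.Vi 0, v ≠ 0 → ∀ w ∈ D.Vi 1, w ≠ 0 → ∀ g, ρ g (v + w) = v + w →
      (D.c g = 0 ∧ ρ g v = v ∧ ρ g w = w) ∨ (D.c g = 1 ∧ ρ g v = w ∧ ρ g w = v) := by
    intro v hv hv0 w hw hw0 g hg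
    rcases D.fix_pair hpq h01 hv hw hv0 hg with h | ⟨hc, -, hwv, hvw⟩
    · exact Or.inl h
    · exact Or.inr ⟨hcne g hc, hvw (by rw [hcne g hc, zero_add]), hwv⟩
  have hsep : ∀ v ∈ D.Vi 0, v ≠ 0 → ∀ w ∈ D.Vi 1, w ≠ 0 → w ∉ Oh (ρ g₀ v) →
      St ρ v = St ρ w := by
    intro v hv hv0 w hw hw0 hnot
    have hvw : v + w ≠ 0 := fun h => hv0 (hindep v hv w hw h)
    have hle : St ρ (v + w) ≤ St ρ v ⊓ St ρ w := by
      intro g hg
      rcases hswap v hv hv0 w hw hw0 g hg with ⟨-, h1, h2⟩ | ⟨hc, h1, -⟩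
      · exact ⟨h1, h2⟩
      · refine absurd ⟨⟨g * g₀⁻¹, ?_⟩, ?_⟩ hnot
        · show D.c _ = 0
          rw [D.c_mul, D.c_inv, hg₀, hc, add_neg_cancel]
        · show ρ (g * g₀⁻¹) (ρ g₀ v) = w
          rw [apply_mul, apply_inv_apply, h1]
    rw [← eq_of_le_St ρ hhalf hvw hv0 (hle.trans inf_le_left),
      ← eq_of_le_St ρ hhalf hvw hw0 (hle.trans inf_le_right)]
  have hg₀V : ∀ v ∈ D.Vi 0, ρ g₀ v ∈ D.Vi 1 := fun v hv => by
    simpa [hg₀] using D.apply_mem_Vi g₀ hv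
  have hg₀V' : ∀ w ∈ D.Vi 1, ρ g₀⁻¹ w ∈ D.Vi 0 := fun w hw => by
    have := D.apply_mem_Vi g₀⁻¹ hw
    rwa [D.c_inv, hg₀, add_neg_cancel] at this
  have hg₀V'' : ∀ w ∈ D.Vi 1, ρ g₀ w ∈ D.Vi 0 := fun w hw => by
    have := D.apply_mem_Vi g₀ hw
    rwa [hg₀, h10] at this
  have hne : ∀ g v, v ≠ 0 → ρ g v ≠ 0 := fun g v hv e =>
    hv ((map_eq_zero_iff _ (LinearEquiv.injective _)).1 e)
  have hdecomp : ∀ x : V, ∃ v ∈ D.Vi 0, ∃ w ∈ D.Vi 1, x = v + w := fun x => by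
    refine ⟨D.proj 0 x, D.proj_mem 0 x, D.proj 1 x, D.proj_mem 1 x, ?_⟩
    conv_lhs => rw [← D.sum_proj hpq x]
    exact Fin.sum_univ_two _
  obtain ⟨w₁, hw₁, hw₁0⟩ := D.exists_mem_ne_zero hρ hpq hirr 1
  -- `H` is transitive on the nonzero vectors of each component
  have htrans : ∀ w ∈ D.Vi 1, w ≠ 0 → w ∈ Oh w₁ := by
    by_contra hcon
    push Not at hcon
    obtain ⟨w₂, hw₂, hw₂0, hw₂O⟩ := hcon
    have hfix1 : ∀ v ∈ D.Vi 0, v ≠ 0 → ∀ g ∈ St ρ v, ∀ w ∈ D.Vi 1, ρ g w = w := by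
      intro v hv hv0 g hg w hw
      have hu := hg₀V v hv
      have hu0 := hne g₀ v hv0
      -- an orbit different from that of `g₀ v`
      obtain ⟨w', hw', hw'0, hw'O⟩ : ∃ w' ∈ D.Vi 1, w' ≠ 0 ∧ w' ∉ Oh (ρ g₀ v) := by
        by_contra h
        push Not at h
        obtain ⟨⟨a, ha⟩, hae⟩ := h w₁ hw₁ hw₁0
        obtain ⟨⟨b, hb⟩, hbe⟩ := h w₂ hw₂ hw₂0
        refine hw₂O ⟨⟨b * a⁻¹, H.mul_mem hb (H.inv_mem ha)⟩, ?_⟩
        show ρ (b * a⁻¹) w₁ = w₂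
        rw [apply_mul, ← hae, apply_inv_apply, hbe]
      let F : AddSubgroup V :=
        { carrier := {x | x ∈ D.Vi 1 ∧ ρ g x = x}
          zero_mem' := ⟨(D.Vi 1).zero_mem, map_zero _⟩
          add_mem' := fun {a b} ha hb => ⟨(D.Vi 1).add_mem ha.1 hb.1, by rw [map_add, ha.2, hb.2]⟩
          neg_mem' := fun {a} ha => ⟨(D.Vi 1).neg_mem ha.1, by rw [map_neg, ha.2]⟩ }
      have hFle : F ≤ D.Vi 1 := fun x hx => hx.1
      have hcomp : ∀ x ∈ D.Vi 1, x ≠ 0 → x ∉ Oh (ρ g₀ v) → x ∈ F := fun x hx hx0 hxO =>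
        ⟨hx, (hsep v hv hv0 x hx hx0 hxO ▸ hg : g ∈ St ρ x)⟩
      suffices hFeq : F = D.Vi 1 by
        have : w ∈ F := hFeq.symm ▸ hw
        exact this.2
      have hsub : insert 0 (Oh w') ⊆ (F : Set V) := by
        rintro x (rfl | hx)
        · exact F.zero_mem
        · obtain ⟨h1, h2⟩ := hOh_sub 1 w' hw' hw'0 x hx
          refine hcomp x h1 h2 fun hxO => hw'O ?_
          obtain ⟨a, ha⟩ := hx
          obtain ⟨b, hb⟩ := hxO
          refine ⟨a⁻¹ * b, ?_⟩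
          show ρ (a.1⁻¹ * b.1) (ρ g₀ v) = w'
          rw [apply_mul, hb, ← ha, apply_inv_apply]
      have hcov : ((D.Vi 1 : Set V)) ⊆ (F : Set V) ∪ Oh (ρ g₀ v) := by
        intro x hx
        by_cases hxO : x ∈ Oh (ρ g₀ v)
        · exact Or.inr hxO
        · rcases eq_or_ne x 0 with rfl | hx0
          · exact Or.inl F.zero_mem
          · exact Or.inl (hcomp x hx hx0 hxO)
      have c1 : (Oh w').ncard + 1 ≤ (F : Set V).ncard := by
        rw [← Set.ncard_insert_of_notMem (fun h => (hOh_sub 1 w' hw' hw'0 0 h).2 rfl)]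
        exact Set.ncard_le_ncard hsub (Set.toFinite _)
      have c2 := (Set.ncard_le_ncard hcov (Set.toFinite _)).trans (Set.ncard_union_le _ _)
      have c3 : (Oh (ρ g₀ v)).ncard = (Oh w').ncard := by
        rw [← Nat.card_coe_set_eq, ← Nat.card_coe_set_eq]
        exact hO_eq 1 1 _ hu hu0 w' hw' hw'0
      rw [c3, ← Nat.card_coe_set_eq, ← Nat.card_coe_set_eq (F : Set V)] at c2
      rw [← Nat.card_coe_set_eq (F : Set V)] at c1
      refine AddSubgroup.eq_of_le_of_card_ge hFle ?_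
      obtain ⟨k, hk⟩ := AddSubgroup.card_dvd_of_le hFle
      change Nat.card (D.Vi 1) ≤ Nat.card F + (Oh w').ncard at c2
      change (Oh w').ncard + 1 ≤ Nat.card F at c1
      rcases Nat.lt_or_ge k 2 with h | h
      · rcases Nat.eq_zero_or_pos k with rfl | hk0
        · rw [mul_zero] at hk
          exact absurd hk Nat.card_pos.ne'
        · obtain rfl : k = 1 := by omega
          rw [hk, mul_one]
      · have : Nat.card F * 2 ≤ Nat.card (D.Vi 1) := hk ▸ Nat.mul_le_mul_left _ h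
        omega
    have hfix0 : ∀ w ∈ D.Vi 1, w ≠ 0 → ∀ g ∈ St ρ w, ∀ v ∈ D.Vi 0, ρ g v = v := by
      intro w hw hw0 g hg v hv
      have hg' : g₀⁻¹ * g * g₀ ∈ St ρ (ρ g₀⁻¹ w) := by
        show ρ (g₀⁻¹ * g * g₀) (ρ g₀⁻¹ w) = ρ g₀⁻¹ w
        rw [apply_mul, apply_apply_inv, apply_mul, show ρ g w = w from hg]
      have h := hfix1 _ (hg₀V' w hw) (hne _ _ hw0) _ hg' (ρ g₀⁻¹ v) (by
        have := D.apply_mem_Vi g₀⁻¹ hv
        rwa [D.c_inv, hg₀, zero_add, show -(1 : ZMod 2) = 1 by decide] at this)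
      rw [apply_mul, apply_apply_inv, apply_mul] at h
      exact (LinearEquiv.injective _) h
    obtain ⟨v, hv, hv0⟩ := D.exists_mem_ne_zero hρ hpq hirr 0
    obtain ⟨w', hw', hw'0, hw'O⟩ : ∃ w' ∈ D.Vi 1, w' ≠ 0 ∧ w' ∉ Oh (ρ g₀ v) := by
      by_contra h
      push Not at h
      obtain ⟨⟨a, ha⟩, hae⟩ := h w₁ hw₁ hw₁0
      obtain ⟨⟨b, hb⟩, hbe⟩ := h w₂ hw₂ hw₂0
      refine hw₂O ⟨⟨b * a⁻¹, H.mul_mem hb (H.inv_mem ha)⟩, ?_⟩
      show ρ (b * a⁻¹) w₁ = w₂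
      rw [apply_mul, ← hae, apply_inv_apply, hbe]
    refine hst v hv0 ((Subgroup.eq_bot_iff_forall _).2 fun g hg => eq_one_of_fix hρ fun x => ?_)
    obtain ⟨a, ha, b, hb, rfl⟩ := hdecomp x
    rw [map_add, hfix1 v hv hv0 g hg b hb,
      hfix0 w' hw' hw'0 g (hsep v hv hv0 w' hw' hw'0 hw'O ▸ hg) a ha]
  -- sizes
  have hOeq : Oh w₁ = (D.Vi 1 : Set V) \ {0} := by
    ext x
    exact ⟨fun hx => ⟨(hOh_sub 1 w₁ hw₁ hw₁0 x hx).1, by simpa using (hOh_sub 1 w₁ hw₁ hw₁0 x hx).2⟩,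
      fun hx => htrans x hx.1 (by simpa using hx.2)⟩
  have hcard1 : Nat.card (Oh w₁) + 1 = Nat.card (D.Vi 1) := by
    rw [hOeq, Nat.card_coe_set_eq,
      Set.ncard_diff_singleton_add_one (D.Vi 1).zero_mem (Set.toFinite _)]
    exact (Nat.card_coe_set_eq _).symm
  obtain ⟨a, ha⟩ : ∃ a, Nat.card (Oh w₁) = 2 ^ a := by
    obtain ⟨n, hn⟩ := IsPGroup.iff_card.1 hG
    have hd : Nat.card (Oh w₁) ∣ 2 ^ n :=
      hn ▸ (dvd_trans ⟨_, (hOcard 1 w₁ hw₁ hw₁0).symm⟩ (Subgroup.card_subgroup_dvd_card H))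
    obtain ⟨a, -, ha⟩ := (Nat.dvd_prime_pow h2).1 hd
    exact ⟨a, ha⟩
  obtain ⟨d, hd⟩ : ∃ d, Nat.card (D.Vi 1) = q ^ d := by
    let W := AddSubgroup.toZModSubmodule q (D.Vi 1)
    refine ⟨Module.finrank (ZMod q) W, ?_⟩
    have := Module.natCard_eq_pow_finrank (K := ZMod q) (V := W)
    rw [Nat.card_zmod] at this
    exact this
  have hd1 : 1 ≤ d := by
    rcases Nat.eq_zero_or_pos d with rfl | h
    · rw [pow_zero] at hd
      have := Nat.two_pow_pos a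
      omega
    · exact h
  have hqd : q ^ d = 2 ^ a + 1 := by omega
  have hcard0 : Nat.card (D.Vi 0) = Nat.card (D.Vi 1) := by
    refine Nat.card_eq_of_bijective (fun x => ⟨ρ g₀ x.1, hg₀V x.1 x.2⟩) ⟨fun x y h => ?_, fun y => ?_⟩
    · exact Subtype.ext ((LinearEquiv.injective _) (congrArg Subtype.val h))
    · exact ⟨⟨ρ g₀⁻¹ y.1, hg₀V' y.1 y.2⟩, Subtype.ext (apply_apply_inv ρ g₀ y.1)⟩
  have hcardV : Nat.card V = q ^ d * q ^ d := by
    rw [← hd]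
    conv_rhs =>
      congr
      · rw [← hcard0]
    rw [← Nat.card_prod]
    refine (Nat.card_eq_of_bijective (fun x : D.Vi 0 × D.Vi 1 => x.1.1 + x.2.1)
      ⟨fun x y h => ?_, fun x => ?_⟩).symm
    · simp only at h
      have h0 : x.1.1 - y.1.1 + (x.2.1 - y.2.1) = 0 := by
        rw [show x.1.1 - y.1.1 + (x.2.1 - y.2.1) = x.1.1 + x.2.1 - (y.1.1 + y.2.1) by abel, h,
          sub_self]
      have e1 := sub_eq_zero.1
        (hindep _ ((D.Vi 0).sub_mem x.1.2 y.1.2) _ ((D.Vi 1).sub_mem x.2.2 y.2.2) h0)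
      rw [e1, add_right_inj] at h
      exact Prod.ext (Subtype.ext e1) (Subtype.ext h)
    · obtain ⟨v, hv, w, hw, rfl⟩ := hdecomp x
      exact ⟨(⟨v, hv⟩, ⟨w, hw⟩), rfl⟩
  rcases pow_eq_two_pow_add_one (Fact.out) hd1 hqd with rfl | ⟨rfl, rfl⟩
  swap
  · exact Or.inr ⟨by rw [hcardV]; norm_num, rfl⟩
  rw [pow_one] at hd hqd hcardV
  refine Or.inl ⟨by rw [hcardV, pow_two], ⟨a, hqd⟩, ?_⟩
  obtain ⟨v₀, hv₀, hv₀0⟩ := D.exists_mem_ne_zero hρ hpq hirr 0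
  obtain ⟨w₀, hw₀, hw₀0⟩ := D.exists_mem_ne_zero hρ hpq hirr 1
  have hline : ∀ i, ∀ u ∈ D.Vi i, u ≠ 0 → Nat.card (D.Vi i) = q → ∀ x ∈ D.Vi i,
      ∃ r : ZMod q, x = r • u := by
    intro i u hu hu0 hc x hx
    have hle : AddSubgroup.zmultiples u ≤ D.Vi i := AddSubgroup.zmultiples_le.2 hu
    have heq : AddSubgroup.zmultiples u = D.Vi i := AddSubgroup.eq_of_le_of_card_ge hle (by
      rw [hc, Nat.card_zmultiples, addOrderOf_eq_prime
        (by rw [← Nat.cast_smul_eq_nsmul (ZMod q), ZMod.natCast_self, zero_smul]) hu0])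
    obtain ⟨k, rfl⟩ := AddSubgroup.mem_zmultiples_iff.1 (heq.symm ▸ hx)
    exact ⟨(k : ZMod q), (Int.cast_smul_eq_zsmul (ZMod q) k u).symm⟩
  have hmem : ∀ i, ∀ u ∈ D.Vi i, ∀ r : ZMod q, r • u ∈ D.Vi i := fun i u hu r => by
    rw [D.mem_Vi, map_smul, D.mem_Vi.1 hu]
  have hbasis : ∀ r s : ZMod q, r • v₀ + s • w₀ = 0 → r = 0 ∧ s = 0 := by
    intro r s h
    have h1 := hindep _ (hmem 0 v₀ hv₀ r) _ (hmem 1 w₀ hw₀ s) h
    rw [h1, zero_add] at h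
    exact ⟨(smul_eq_zero.1 h1).resolve_right hv₀0, (smul_eq_zero.1 h).resolve_right hw₀0⟩
  have hbasis' : ∀ r s r' s' : ZMod q, r • v₀ + s • w₀ = r' • v₀ + s' • w₀ → r = r' ∧ s = s' := by
    intro r s r' s' h
    have := hbasis (r - r') (s - s') (by
      rw [sub_smul, sub_smul, show r • v₀ - r' • v₀ + (s • w₀ - s' • w₀) =
        r • v₀ + s • w₀ - (r' • v₀ + s' • w₀) by abel, h, sub_self])
    exact ⟨sub_eq_zero.1 this.1, sub_eq_zero.1 this.2⟩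
  let φ : (Fin 2 → ZMod q) →ₗ[ZMod q] V :=
    (LinearMap.proj 0).smulRight v₀ + (LinearMap.proj 1).smulRight w₀
  have hφ : Function.Bijective φ := by
    rw [Nat.bijective_iff_injective_and_card]
    refine ⟨fun x y h => ?_, ?_⟩
    · simp only [φ, LinearMap.add_apply, LinearMap.smulRight_apply, LinearMap.proj_apply] at h
      obtain ⟨e1, e2⟩ := hbasis' _ _ _ _ h
      ext i
      fin_cases i <;> assumption
    · rw [hcardV, Nat.card_pi, Fin.prod_univ_two, Nat.card_zmod]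
  let e : V ≃ₗ[ZMod q] (Fin 2 → ZMod q) := (LinearEquiv.ofBijective φ hφ).symm
  have he : ∀ x, e.symm x = x 0 • v₀ + x 1 • w₀ := fun x => by
    simp [e, φ]
  -- the swaps
  have huniq : ∀ (c : ZMod q), c ≠ 0 → ∀ g, ρ g (v₀ + c • w₀) = v₀ + c • w₀ → g ≠ 1 →
      D.c g = 1 ∧ ρ g v₀ = c • w₀ ∧ ρ g w₀ = c⁻¹ • v₀ := by
    intro c hc g hg hg1
    rcases hswap v₀ hv₀ hv₀0 _ (hmem 1 w₀ hw₀ c) (smul_ne_zero hc hw₀0) g hg with
      ⟨hc0, h1, h2⟩ | ⟨hc1, h1, h2⟩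
    · refine absurd (eq_one_of_fix hρ fun x => ?_) hg1
      rw [map_smul] at h2
      obtain ⟨y, rfl⟩ := e.symm.surjective x
      rw [he, map_add, map_smul, map_smul, h1, smul_right_injective V hc h2]
    · refine ⟨hc1, h1, ?_⟩
      rw [map_smul] at h2
      rw [← smul_right_injective V hc |>.eq_iff, h2, smul_smul, mul_inv_cancel₀ hc, one_smul]
  have hext : ∀ g g' : G, ρ g v₀ = ρ g' v₀ → ρ g w₀ = ρ g' w₀ → g = g' := by
    intro g g' h1 h2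
    refine hρ (LinearEquiv.ext fun x => ?_)
    obtain ⟨y, rfl⟩ := e.symm.surjective x
    rw [he, map_add, map_add, map_smul, map_smul, map_smul, map_smul, h1, h2]
  have hvw0 : ∀ c : ZMod q, v₀ + c • w₀ ≠ 0 := fun c h => hv₀0 (hindep _ hv₀ _ (hmem 1 w₀ hw₀ c) h)
  have hSw : ∀ c : ZMod q, c ≠ 0 → Nat.card (St ρ (v₀ + c • w₀)) ≤ 2 := by
    intro c hc
    rcases Nat.lt_or_ge 2 (Nat.card (St ρ (v₀ + c • w₀))) with h | h
    swap
    · exact h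
    exfalso
    obtain ⟨g, hg, hg1⟩ := (St ρ (v₀ + c • w₀)).ne_bot_iff_exists_ne_one.1 (hst _ (hvw0 c)) |>
      fun ⟨x, hx⟩ => (⟨x.1, x.2, fun e => hx (Subtype.ext e)⟩ : ∃ g ∈ St ρ (v₀ + c • w₀), g ≠ 1)
    have hsub : (St ρ (v₀ + c • w₀) : Set G) ⊆ {1, g} := by
      intro x hx
      rcases eq_or_ne x 1 with rfl | hx1
      · exact Or.inl rfl
      obtain ⟨-, a1, a2⟩ := huniq c hc x hx hx1
      obtain ⟨-, b1, b2⟩ := huniq c hc g hg hg1
      exact Or.inr (hext x g (a1.trans b1.symm) (a2.trans b2.symm))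
    have := Set.ncard_le_ncard hsub (Set.toFinite _)
    rw [Set.ncard_pair (Ne.symm hg1), ← Nat.card_coe_set_eq] at this
    exact absurd this (by simpa using h)
  have hT : ∀ c : ZMod q, c ≠ 0 → ∃ g, ρ g v₀ = c • w₀ ∧ ρ g w₀ = c⁻¹ • v₀ := by
    intro c hc
    obtain ⟨⟨g, hg⟩, hg1⟩ := (St ρ (v₀ + c • w₀)).ne_bot_iff_exists_ne_one.1 (hst _ (hvw0 c))
    exact ⟨g, (huniq c hc g hg (fun e => hg1 (Subtype.ext e))).2⟩
  choose T hTv hTw using hT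
  have hS2 : Nat.card (St ρ v₀) ≤ 2 := by
    rw [card_St_eq ρ hhalf hv₀0 (hvw0 1)]
    exact hSw 1 one_ne_zero
  obtain ⟨⟨τ, hτ⟩, hτ1⟩ := (St ρ v₀).ne_bot_iff_exists_ne_one.1 (hst v₀ hv₀0)
  replace hτ1 : τ ≠ 1 := fun e => hτ1 (Subtype.ext e)
  have hStv : ∀ g ∈ St ρ v₀, g = 1 ∨ g = τ := by
    intro g hg
    by_contra h
    push Not at h
    have hsub : ({1, τ, g} : Set G) ⊆ (St ρ v₀ : Set G) := by
      rintro x (rfl | rfl | rfl)
      exacts [(St ρ v₀).one_mem, hτ, hg]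
    have := Set.ncard_le_ncard hsub (Set.toFinite _)
    rw [Set.ncard_eq_toFinset_card', ← Nat.card_coe_set_eq (St ρ v₀ : Set G)] at this
    simp [Ne.symm hτ1, Ne.symm h.1, Ne.symm h.2] at this
    omega
  have hτw : ρ τ w₀ = -w₀ := by
    have hw' : ρ τ w₀ ∈ D.Vi 1 := by
      simpa [D.c_eq_zero_of_fix hv₀ hv₀0 hτ] using D.apply_mem_Vi τ hw₀
    obtain ⟨b, hb⟩ := hline 1 w₀ hw₀ hw₀0 hd _ hw'
    have hττ : ρ (τ * τ) v₀ = v₀ := (St ρ v₀).mul_mem hτ hτ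
    rcases hStv _ hττ with h | h
    · have := congrArg (fun x => ρ x w₀) h
      simp only [apply_mul, hb, map_smul, smul_smul, map_one, LinearEquiv.coe_one, id_eq] at this
      rcases mul_self_eq_one_iff.1
        (smul_left_injective (ZMod q) hw₀0 (this.trans (one_smul _ w₀).symm)) with h' | h'
      · refine absurd (hext τ 1 ?_ ?_) hτ1
        · rw [map_one]; exact hτ
        · rw [hb, h', one_smul, map_one]; rfl
      · rw [hb, h', neg_smul, one_smul]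
    · exact absurd (mul_eq_left.1 h) hτ1
  have hline0 : ∀ x ∈ D.Vi 0, ∃ r : ZMod q, x = r • v₀ :=
    hline 0 v₀ hv₀ hv₀0 (hcard0.trans hd)
  -- all elements
  have hall : ∀ g, ∃ a s : ZMod q, a ≠ 0 ∧ (s = 1 ∨ s = -1) ∧
      ((ρ g v₀ = a • v₀ ∧ ρ g w₀ = (s * a⁻¹) • w₀) ∨
        (ρ g v₀ = a • w₀ ∧ ρ g w₀ = (s * a⁻¹) • v₀)) := by
    intro g
    have hgv := D.apply_mem_Vi g hv₀
    rw [zero_add] at hgv
    have h := hne g v₀ hv₀0
    have hsign : ∀ t : G, ρ t v₀ = ρ g v₀ → ∃ s : ZMod q, (s = 1 ∨ s = -1) ∧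
        ρ g w₀ = s • ρ t w₀ := by
      intro t ht
      have hm : t⁻¹ * g ∈ St ρ v₀ := by
        show ρ (t⁻¹ * g) v₀ = v₀
        rw [apply_mul, ← ht, apply_inv_apply]
      rcases hStv _ hm with h1 | h1
      · exact ⟨1, Or.inl rfl, by rw [inv_mul_eq_one.1 h1, one_smul]⟩
      · refine ⟨-1, Or.inr rfl, ?_⟩
        rw [inv_mul_eq_iff_eq_mul.1 h1, apply_mul, hτw, map_neg, neg_smul, one_smul]
    rcases zmod_two_cases (D.c g) with hc | hc <;> rw [hc] at hgv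
    · obtain ⟨r, hr⟩ := hline0 _ hgv
      have hr0 : r ≠ 0 := fun e => h (by rw [hr, e, zero_smul])
      obtain ⟨s, hs, hsw⟩ := hsign (T r⁻¹ (inv_ne_zero hr0) * T 1 one_ne_zero) (by
        rw [apply_mul, hTv, one_smul, hTw, inv_inv, hr])
      refine ⟨r, s, hr0, hs, Or.inl ⟨hr, ?_⟩⟩
      rw [hsw, apply_mul, hTw, inv_one, one_smul, hTv, smul_smul]
    · obtain ⟨r, hr⟩ := hline 1 w₀ hw₀ hw₀0 hd _ hgv
      have hr0 : r ≠ 0 := fun e => h (by rw [hr, e, zero_smul])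
      obtain ⟨s, hs, hsw⟩ := hsign (T r hr0) (by rw [hTv, hr])
      exact ⟨r, s, hr0, hs, Or.inr ⟨hr, by rw [hsw, hTw, smul_smul]⟩⟩
  refine ⟨e, fun f => ?_⟩
  have hform : ∀ (g : G) (x : Fin 2 → ZMod q), (e.symm.trans ((ρ g).trans e)) x =
      e (x 0 • ρ g v₀ + x 1 • ρ g w₀) := by
    intro g x
    rw [LinearEquiv.trans_apply, LinearEquiv.trans_apply, he, map_add, map_smul, map_smul]
  have hcoord : ∀ r s : ZMod q, e (r • v₀ + s • w₀) = ![r, s] := fun r s => by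
    apply e.symm.injective; rw [e.symm_apply_apply, he]; simp
  have hdiag : ∀ (g : G) (a b : ZMod q), ρ g v₀ = a • v₀ → ρ g w₀ = b • w₀ →
      ∀ x : Fin 2 → ZMod q, (e.symm.trans ((ρ g).trans e)) x = ![a * x 0, b * x 1] := by
    intro g a b h1 h2 x
    rw [hform, h1, h2, smul_smul, smul_smul, hcoord, mul_comm a, mul_comm b]
  have hanti : ∀ (g : G) (a b : ZMod q), ρ g v₀ = a • w₀ → ρ g w₀ = b • v₀ →
      ∀ x : Fin 2 → ZMod q, (e.symm.trans ((ρ g).trans e)) x = ![b * x 1, a * x 0] := by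
    intro g a b h1 h2 x
    rw [hform, h1, h2, smul_smul, smul_smul, add_comm, hcoord, mul_comm a, mul_comm b]
  constructor
  · rintro ⟨g, rfl⟩
    obtain ⟨a, s, ha, hs, ⟨h1, h2⟩ | ⟨h1, h2⟩⟩ := hall g
    · exact ⟨a, s, ha, hs, Or.inl (hdiag g _ _ h1 h2)⟩
    · exact ⟨a, s, ha, hs, Or.inr (hanti g _ _ h1 h2)⟩
  · rintro ⟨a, s, ha, hs, hf⟩
    obtain ⟨σ, hσv, hσw⟩ : ∃ σ, ρ σ v₀ = v₀ ∧ ρ σ w₀ = s • w₀ := by
      rcases hs with rfl | rfl
      · exact ⟨1, by simp, by simp⟩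
      · exact ⟨τ, hτ, by rw [hτw, neg_smul, one_smul]⟩
    rcases hf with hf | hf
    · refine ⟨T a⁻¹ (inv_ne_zero ha) * T 1 one_ne_zero * σ, LinearEquiv.ext fun x => ?_⟩
      rw [hf, hdiag _ a (s * a⁻¹) ?_ ?_]
      · rw [apply_mul, apply_mul, hσv, hTv, one_smul, hTw, inv_inv]
      · rw [apply_mul, apply_mul, hσw, map_smul, hTw, inv_one, one_smul, map_smul, hTv, smul_smul]
    · refine ⟨T a ha * σ, LinearEquiv.ext fun x => ?_⟩
      rw [hf, hanti _ a (s * a⁻¹) ?_ ?_]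
      · rw [apply_mul, hσv, hTv]
      · rw [apply_mul, hσw, map_smul, hTw, smul_smul]

end CfsgLib.Recog45.HalfTransitive
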